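import Mathlib

/-!
# The rank one Steinberg relations over a finite field

In a group `H` with two additive families `x t`, `y t` satisfying the Weyl conjugation relations,
the torus elements are multiplicative and every element of the generated group has a Bruhat form.
-/

set_option autoImplicit false

namespace Cfsg.Agent.SteinSL2

variable {K H : Type*} [Field K] [Group H]

/-- The defining relations. -/
structure Rel (K H : Type*) [Field K] [Group H] where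
  x : K → H
  y : K → H
  x_add : ∀ t u, x t * x u = x (t + u)
  y_add : ∀ t u, y t * y u = y (t + u)
  wx : ∀ t u, t ≠ 0 → (x t * y (-t⁻¹) * x t) * x u * (x t * y (-t⁻¹) * x t)⁻¹ = y (-(t⁻¹ ^ 2 * u))

namespace Rel

variable (R : Rel K H)

theorem x_zero : R.x 0 = 1 := by
  have h := R.x_add 0 0
  rw [add_zero] at h
  exact mul_eq_left.mp h

theorem y_zero : R.y 0 = 1 := by
  have h := R.y_add 0 0
  rw [add_zero] at h
  exact mul_eq_left.mp h

theorem x_inv (t : K) : (R.x t)⁻¹ = R.x (-t) :=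
  inv_eq_of_mul_eq_one_right (by rw [R.x_add, add_neg_cancel, R.x_zero])

theorem y_inv (t : K) : (R.y t)⁻¹ = R.y (-t) :=
  inv_eq_of_mul_eq_one_right (by rw [R.y_add, add_neg_cancel, R.y_zero])

/-- The Weyl elements. -/
def w (t : K) : H := R.x t * R.y (-t⁻¹) * R.x t

/-- The torus elements. -/
def h (t : K) : H := R.w t * R.w (-1)

theorem w_inv (t : K) : (R.w t)⁻¹ = R.w (-t) := by
  simp only [w, mul_inv_rev, R.x_inv, R.y_inv, inv_neg, neg_neg, mul_assoc]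

theorem w_conj_x {t : K} (ht : t ≠ 0) (u : K) : R.w t * R.x u = R.y (-(u / t ^ 2)) * R.w t := by
  have h := R.wx t u ht
  rw [mul_inv_eq_iff_eq_mul, inv_pow] at h
  rw [div_eq_inv_mul]
  exact h

theorem w_conj_y {t : K} (ht : t ≠ 0) (u : K) : R.w t * R.y u = R.x (-(t ^ 2 * u)) * R.w t := by
  have h := R.w_conj_x (neg_ne_zero.2 ht) (-(t ^ 2 * u))
  rw [← R.w_inv, neg_sq, inv_mul_eq_iff_eq_mul] at h
  rw [show -(-(t ^ 2 * u) / t ^ 2) = u by field_simp] at h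
  rw [h]
  group

theorem conj_x {t : K} (ht : t ≠ 0) (u : K) : R.w t * R.x u * (R.w t)⁻¹ = R.y (-(u / t ^ 2)) := by
  rw [R.w_conj_x ht, mul_inv_cancel_right]

theorem conj_y {t : K} (ht : t ≠ 0) (u : K) : R.w t * R.y u * (R.w t)⁻¹ = R.x (-(t ^ 2 * u)) := by
  rw [R.w_conj_y ht, mul_inv_cancel_right]

/-- The second form of a Weyl element. -/
theorem w_eq {t : K} (ht : t ≠ 0) : R.w t = R.y (-t⁻¹) * R.x t * R.y (-t⁻¹) := by
  have h : R.w t * R.w t * (R.w t)⁻¹ =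
      (R.w t * R.x t * (R.w t)⁻¹) * (R.w t * R.y (-t⁻¹) * (R.w t)⁻¹) * (R.w t * R.x t * (R.w t)⁻¹) := by
    nth_rw 2 [w]
    group
  rw [mul_inv_cancel_right, R.conj_x ht, R.conj_y ht] at h
  rw [h]
  congr 3 <;> field_simp

theorem w_conj_w {t s : K} (ht : t ≠ 0) (hs : s ≠ 0) :
    R.w t * R.w s * (R.w t)⁻¹ = R.w (t ^ 2 / s) := by
  have h : R.w t * R.w s * (R.w t)⁻¹ =
      (R.w t * R.x s * (R.w t)⁻¹) * (R.w t * R.y (-s⁻¹) * (R.w t)⁻¹) * (R.w t * R.x s * (R.w t)⁻¹) := by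
    show R.w t * (R.x s * R.y (-s⁻¹) * R.x s) * (R.w t)⁻¹ = _
    group
  rw [h, R.conj_x ht, R.conj_y ht, R.w_eq (div_ne_zero (pow_ne_zero 2 ht) hs)]
  congr 3 <;> field_simp

theorem neg_one_ne : (-1 : K) ≠ 0 := neg_ne_zero.2 one_ne_zero

theorem h_one : R.h 1 = 1 := by rw [h, ← R.w_inv, mul_inv_cancel]

theorem w_eq_h (t : K) : R.w t = R.h t * R.w 1 := by
  rw [h, ← R.w_inv, inv_mul_cancel_right]

theorem h_conj_x {t : K} (ht : t ≠ 0) (u : K) : R.h t * R.x u = R.x (t ^ 2 * u) * R.h t := by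
  rw [h, mul_assoc, R.w_conj_x neg_one_ne, ← mul_assoc, R.w_conj_y ht, mul_assoc]
  congr 2; ring

theorem h_conj_y {t : K} (ht : t ≠ 0) (u : K) : R.h t * R.y u = R.y (u / t ^ 2) * R.h t := by
  rw [h, mul_assoc, R.w_conj_y neg_one_ne, ← mul_assoc, R.w_conj_x ht, mul_assoc]
  congr 2; ring

theorem h_conj_w {t : K} (ht : t ≠ 0) (s : K) : R.h t * R.w s = R.w (t ^ 2 * s) * R.h t := by
  simp only [w]
  rw [← mul_assoc, ← mul_assoc, R.h_conj_x ht, mul_assoc (R.x _) (R.h t), R.h_conj_y ht, ← mul_assoc,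
    mul_assoc _ (R.h t), R.h_conj_x ht, ← mul_assoc]
  congr 4
  field_simp

theorem h_conj_h {t : K} (ht : t ≠ 0) (s : K) :
    R.h t * R.h s = R.h (t ^ 2 * s) * (R.h (t ^ 2))⁻¹ * R.h t := by
  have e : R.h (t ^ 2 * s) * (R.h (t ^ 2))⁻¹ = R.w (t ^ 2 * s) * R.w (-(t ^ 2)) := by
    simp only [h, mul_inv_rev, ← R.w_inv]
    group
  rw [e]
  show R.h t * (R.w s * R.w (-1)) = _
  rw [← mul_assoc, R.h_conj_w ht, mul_assoc, R.h_conj_w ht, ← mul_assoc, mul_neg_one]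

/-- The key identity coming from `y u * y v = y (u + v)`. -/
theorem key {A B : K} (hA : A ≠ 0) (hB : B ≠ 0) (hS : A + B ≠ 0) :
    R.w (-(A ^ 2) / (A + B)) * R.w A * R.w B = R.w (A * B / (A + B)) := by
  have hy : ∀ v : K, v ≠ 0 → R.y v = R.x v⁻¹ * R.w (-v⁻¹) * R.x v⁻¹ := fun v hv => by
    simp only [w, inv_neg, inv_inv, neg_neg, ← mul_assoc]
    rw [R.x_add, add_neg_cancel, R.x_zero, one_mul, mul_assoc, R.x_add, neg_add_cancel, R.x_zero, mul_one]
  set S := A + B with hSdef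
  have h := R.y_add (-A⁻¹) (-B⁻¹)
  have hv : -A⁻¹ + -B⁻¹ = -(S / (A * B)) := by rw [hSdef]; field_simp; ring
  rw [hv, hy _ (by simpa using hA), hy _ (by simpa using hB),
    hy _ (neg_ne_zero.2 (div_ne_zero hS (mul_ne_zero hA hB)))] at h
  simp only [inv_neg, inv_inv, neg_neg, inv_div] at h
  -- h : x(-A) w A x(-A) * (x(-B) w B x(-B)) = x(-AB/S) w(AB/S) x(-AB/S)
  have h1 : R.x (-A) * R.w A * R.x (-A) * (R.x (-B) * R.w B * R.x (-B)) =
      R.x (-A) * (R.w A * R.x (-S)) * R.w B * R.x (-B) := by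
    rw [show (-S : K) = -A + -B by rw [hSdef]; ring, ← R.x_add]
    group
  have hu : -(-S / A ^ 2) ≠ 0 := by simp [hS, hA]
  rw [h1, R.w_conj_x hA, hy _ hu] at h
  rw [show (-(-S / A ^ 2))⁻¹ = A ^ 2 / S by field_simp] at h
  have h2 : R.x (-A) * (R.x (A ^ 2 / S) * R.w (-(A ^ 2 / S)) * R.x (A ^ 2 / S) * R.w A) * R.w B * R.x (-B) =
      R.x (-A + A ^ 2 / S) * R.w (-(A ^ 2 / S)) * (R.x (A ^ 2 / S) * (R.w A * R.w B)) * R.x (-B) := by
    rw [← R.x_add]
    group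
  have hmove : R.x (A ^ 2 / S) * (R.w A * R.w B) = R.w A * R.w B * R.x (B ^ 2 / S) := by
    rw [mul_assoc, R.w_conj_x hB, ← mul_assoc (R.w A), R.w_conj_y hA, mul_assoc]
    congr 2; field_simp
  rw [h2, hmove, ← mul_assoc, mul_assoc _ (R.x (B ^ 2 / S)), R.x_add,
    show -A + A ^ 2 / S = -(A * B / S) by field_simp; rw [hSdef]; ring,
    show B ^ 2 / S + -B = -(A * B / S) by field_simp; rw [hSdef]; ring] at h
  have h3 := mul_left_cancel (mul_right_cancel (show R.x (-(A * B / S)) * (R.w (-(A ^ 2 / S)) * (R.w A * R.w B)) *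
      R.x (-(A * B / S)) = R.x (-(A * B / S)) * R.w (A * B / S) * R.x (-(A * B / S)) by
    rw [← h]; group))
  rw [neg_div, mul_assoc]
  exact h3

/-- `h` is central up to the torus: torus elements commute with one another. -/
theorem h_comm [Finite K] (hgen : Subgroup.closure (Set.range R.x ∪ Set.range R.y) = ⊤) {t s : K} (ht : t ≠ 0)
    (hs : s ≠ 0) : Commute (R.h t) (R.h s) := by
  have hcent : ∀ t s : K, t ≠ 0 → s ≠ 0 → R.h t * R.h s * (R.h (t * s))⁻¹ ∈ Subgroup.center H := by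
    intro t s ht hs
    have hts := mul_ne_zero ht hs
    set c := R.h t * R.h s * (R.h (t * s))⁻¹ with hc
    rw [Subgroup.mem_center_iff]
    intro g
    have hg : g ∈ Subgroup.centralizer ({c} : Set H) := by
      suffices Subgroup.centralizer ({c} : Set H) = ⊤ by rw [this]; trivial
      rw [eq_top_iff, ← hgen, Subgroup.closure_le]
      rintro _ (⟨u, rfl⟩ | ⟨u, rfl⟩)
      · rw [SetLike.mem_coe, Subgroup.mem_centralizer_singleton_iff, hc]
        have e : (R.h (t * s))⁻¹ * R.x u = R.x (u / (t * s) ^ 2) * (R.h (t * s))⁻¹ := by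
          rw [inv_mul_eq_iff_eq_mul, ← mul_assoc, R.h_conj_x hts, show (t * s) ^ 2 * (u / (t * s) ^ 2) = u by field_simp,
            mul_inv_cancel_right]
        have e2 : R.h t * R.h s * R.x (u / (t * s) ^ 2) = R.x u * (R.h t * R.h s) := by
          rw [mul_assoc (R.h t) (R.h s), R.h_conj_x hs, ← mul_assoc (R.h t), R.h_conj_x ht,
            show t ^ 2 * (s ^ 2 * (u / (t * s) ^ 2)) = u by field_simp, mul_assoc]
        rw [← mul_assoc (R.x u), ← e2, mul_assoc _ (R.x _), ← e, ← mul_assoc]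
      · rw [SetLike.mem_coe, Subgroup.mem_centralizer_singleton_iff, hc]
        have e : (R.h (t * s))⁻¹ * R.y u = R.y (u * (t * s) ^ 2) * (R.h (t * s))⁻¹ := by
          rw [inv_mul_eq_iff_eq_mul, ← mul_assoc, R.h_conj_y hts, show u * (t * s) ^ 2 / (t * s) ^ 2 = u by field_simp,
            mul_inv_cancel_right]
        have e2 : R.h t * R.h s * R.y (u * (t * s) ^ 2) = R.y u * (R.h t * R.h s) := by
          rw [mul_assoc (R.h t) (R.h s), R.h_conj_y hs, ← mul_assoc (R.h t), R.h_conj_y ht,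
            show u * (t * s) ^ 2 / s ^ 2 / t ^ 2 = u by field_simp, mul_assoc]
        rw [← mul_assoc (R.y u), ← e2, mul_assoc _ (R.y _), ← e, ← mul_assoc]
    exact Subgroup.mem_centralizer_singleton_iff.1 hg
  -- modulo the centre, all torus elements are powers of one of them
  obtain ⟨g, hg⟩ := IsCyclic.exists_generator (α := Kˣ)
  let π := QuotientGroup.mk' (Subgroup.center H)
  let f : Kˣ →* H ⧸ Subgroup.center H := MonoidHom.mk' (fun a => π (R.h a)) fun a b => by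
    show π _ = π _ * π _
    rw [← map_mul, eq_comm, ← div_eq_one, ← map_div, div_eq_mul_inv]
    exact (QuotientGroup.eq_one_iff _).2 (by simpa using hcent a b a.ne_zero b.ne_zero)
  have hpow : ∀ a : Kˣ, ∃ n : ℤ, ∃ z ∈ Subgroup.center H, R.h a = R.h g ^ n * z := fun a => by
    obtain ⟨n, hn⟩ := hg a
    refine ⟨n, (R.h g ^ n)⁻¹ * R.h a, ?_, by group⟩
    rw [← QuotientGroup.eq_one_iff]
    show π _ = 1
    rw [map_mul, map_inv, map_zpow, inv_mul_eq_one]
    show (f g) ^ n = f a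
    rw [← map_zpow]
    exact congrArg f hn
  obtain ⟨n, z, hz, e1⟩ := hpow (Units.mk0 t ht)
  obtain ⟨m, z', hz', e2⟩ := hpow (Units.mk0 s hs)
  simp only [Units.val_mk0] at e1 e2
  rw [e1, e2]
  have c1 : ∀ b, Commute z b := fun b => (Subgroup.mem_center_iff.1 hz b).symm
  have c2 : ∀ b, Commute z' b := fun b => (Subgroup.mem_center_iff.1 hz' b).symm
  exact ((((Commute.refl (R.h g)).zpow_zpow n m).mul_right ((c2 _).symm))).mul_left (c1 _)

theorem h_sq_mul [Finite K] (hgen : Subgroup.closure (Set.range R.x ∪ Set.range R.y) = ⊤) {t s : K} (ht : t ≠ 0)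
    (hs : s ≠ 0) : R.h (t ^ 2 * s) = R.h (t ^ 2) * R.h s := by
  have h1 := R.h_conj_h ht s
  have ht2 := pow_ne_zero 2 ht
  rw [(R.h_comm hgen ht hs).eq] at h1
  have h2 := mul_right_cancel h1
  rw [eq_mul_inv_iff_mul_eq] at h2
  rw [← h2, (R.h_comm hgen hs ht2).eq]

/-- The torus is multiplicative over a finite field. -/
theorem h_mul [Finite K] (hgen : Subgroup.closure (Set.range R.x ∪ Set.range R.y) = ⊤) {t s : K} (ht : t ≠ 0)
    (hs : s ≠ 0) : R.h (t * s) = R.h t * R.h s := by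
  classical
  cases nonempty_fintype K
  have sq : ∀ {q u : K}, IsSquare q → q ≠ 0 → u ≠ 0 → R.h (q * u) = R.h q * R.h u := by
    rintro _ u ⟨r, rfl⟩ hq hu
    rw [← sq]
    exact R.h_sq_mul hgen (left_ne_zero_of_mul hq) hu
  by_cases hchar : ringChar K = 2
  · exact sq (FiniteField.isSquare_of_char_two hchar t) ht hs
  by_cases ht' : IsSquare t
  · exact sq ht' ht hs
  by_cases hs' : IsSquare s
  · rw [mul_comm, sq hs' hs ht, (R.h_comm hgen hs ht).eq]
  -- both are nonsquares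
  have hp : ∀ {a b : K}, ¬IsSquare a → ¬IsSquare b → IsSquare (a * b) := by
    intro a b ha hb
    have ha0 : a ≠ 0 := fun h0 => ha (h0 ▸ IsSquare.zero)
    have hb0 : b ≠ 0 := fun h0 => hb (h0 ▸ IsSquare.zero)
    rw [← quadraticChar_one_iff_isSquare (mul_ne_zero ha0 hb0), map_mul,
      quadraticChar_neg_one_iff_not_isSquare.2 ha, quadraticChar_neg_one_iff_not_isSquare.2 hb]
    norm_num
  suffices hn : ∃ n : K, ¬IsSquare n ∧ R.h (n ^ 2) = R.h n * R.h n by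
    obtain ⟨n, hn, hnn⟩ := hn
    have hn0 : n ≠ 0 := fun h0 => hn (h0 ▸ IsSquare.zero)
    have key' : ∀ {a : K}, ¬IsSquare a → a ≠ 0 → IsSquare (a / n) ∧ R.h a = R.h (a / n) * R.h n := by
      intro a ha ha0
      have hq : IsSquare (a / n) := by
        rw [show a / n = a * n / (n * n) by field_simp, div_eq_mul_inv]
        exact (hp ha hn).mul (IsSquare.inv ⟨n, rfl⟩)
      exact ⟨hq, by rw [← sq hq (div_ne_zero ha0 hn0) hn0, div_mul_cancel₀ _ hn0]⟩
    obtain ⟨qt, et⟩ := key' ht' ht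
    obtain ⟨qs, es⟩ := key' hs' hs
    have htn := div_ne_zero ht hn0
    have hsn := div_ne_zero hs hn0
    rw [show t * s = t / n * (s / n * n ^ 2) by field_simp, sq qt htn (mul_ne_zero hsn (pow_ne_zero 2 hn0)),
      sq qs hsn (pow_ne_zero 2 hn0), hnn, et, es, mul_assoc (R.h (t / n))]
    congr 1
    rw [← mul_assoc, ← mul_assoc, (R.h_comm hgen hn0 hsn).eq]
  -- the formula in terms of `h`
  have keyh : ∀ {A B : K}, A ≠ 0 → B ≠ 0 → A + B ≠ 0 →
      R.h (-(A ^ 2) / (A + B)) * R.h B = R.h (A * B / (A + B)) * R.h (-A) := by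
    intro A B hA hB hS
    have hk := R.key hA hB hS
    have hAA : R.w A = (R.w 1)⁻¹ * (R.h (-A))⁻¹ := by rw [← mul_inv_rev, ← R.w_eq_h, R.w_inv, neg_neg]
    rw [R.w_eq_h (-(A ^ 2) / (A + B)), hAA, R.w_eq_h B, R.w_eq_h (A * B / (A + B))] at hk
    have hk2 : R.h (-(A ^ 2) / (A + B)) * (R.h (-A))⁻¹ * R.h B = R.h (A * B / (A + B)) :=
      mul_right_cancel (b := R.w 1) (by rw [← hk]; group)
    rw [← hk2, mul_assoc _ (R.h B), (R.h_comm hgen hB (neg_ne_zero.2 hA)).eq]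
    group
  obtain ⟨n, hn⟩ := FiniteField.exists_nonsquare hchar
  obtain ⟨a, b, hab⟩ := FiniteField.exists_root_sum_quadratic (f := (Polynomial.X ^ 2 : Polynomial K))
    (g := Polynomial.X ^ 2 - Polynomial.C n) (by simp) (Polynomial.degree_X_pow_sub_C two_pos n)
    (FiniteField.odd_card_of_char_ne_two hchar)
  simp at hab
  have habn : a ^ 2 + b ^ 2 = n := by linear_combination hab
  have ha : a ≠ 0 := by rintro rfl; exact hn ⟨b, by rw [← habn]; ring⟩
  have hb : b ≠ 0 := by rintro rfl; exact hn ⟨a, by rw [← habn]; ring⟩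
  have hn0 : n ≠ 0 := fun h0 => hn (h0 ▸ IsSquare.zero)
  by_cases hm : IsSquare (-1 : K)
  · -- `-1` is a square
    have hk := keyh (A := n) (B := -b ^ 2) hn0 (by simp [hb]) (by rw [← habn]; simpa using ha)
    have hS : n + -b ^ 2 = a ^ 2 := by rw [← habn]; ring
    rw [hS] at hk
    have hr : (-b ^ 2) / a ^ 2 ≠ 0 := by simp [ha, hb]
    have hrs : IsSquare ((-b ^ 2) / a ^ 2) := by
      rw [show (-b ^ 2) / a ^ 2 = -1 * ((b / a) * (b / a)) by ring]
      exact hm.mul ⟨_, rfl⟩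
    have hms : IsSquare (-b ^ 2) := by rw [show -b ^ 2 = -1 * (b * b) by ring]; exact hm.mul ⟨_, rfl⟩
    rw [show n * -b ^ 2 / a ^ 2 = (-b ^ 2) / a ^ 2 * n by ring, sq hrs hr hn0,
      show -n = -1 * n by ring, sq hm (by simp) hn0,
      show -n ^ 2 / a ^ 2 = -1 * ((a⁻¹) ^ 2 * n ^ 2) by ring, sq hm (by simp) (by simp [ha, hn0]),
      R.h_sq_mul hgen (inv_ne_zero ha) (pow_ne_zero 2 hn0)] at hk
    have e : R.h ((-b ^ 2) / a ^ 2) = R.h ((a⁻¹) ^ 2) * R.h (-b ^ 2) := by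
      rw [← R.h_sq_mul hgen (inv_ne_zero ha) (by simp [hb])]; congr 1; ring
    rw [e] at hk
    refine ⟨n, hn, ?_⟩
    have hbb : (-b ^ 2 : K) ≠ 0 := by simp [hb]
    have ha2 : ((a⁻¹) ^ 2 : K) ≠ 0 := by simp [ha]
    have hm0 : (-1 : K) ≠ 0 := neg_one_ne
    have hn2 := pow_ne_zero 2 hn0
    apply mul_left_cancel (a := R.h (-1) * R.h ((a⁻¹) ^ 2) * R.h (-b ^ 2))
    calc R.h (-1) * R.h ((a⁻¹) ^ 2) * R.h (-b ^ 2) * R.h (n ^ 2)
        = R.h (-1) * (R.h ((a⁻¹) ^ 2) * R.h (n ^ 2)) * R.h (-b ^ 2) := by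
          rw [mul_assoc _ (R.h (-b ^ 2)), (R.h_comm hgen hbb hn2).eq]; group
      _ = R.h ((a⁻¹) ^ 2) * R.h (-b ^ 2) * R.h n * (R.h (-1) * R.h n) := hk
      _ = _ := by
          rw [← mul_assoc _ (R.h (-1)), mul_assoc _ (R.h n) (R.h (-1)), (R.h_comm hgen hn0 hm0).eq,
            ← mul_assoc, mul_assoc (R.h _) (R.h (-b ^ 2)), (R.h_comm hgen hbb hm0).eq, ← mul_assoc,
            (R.h_comm hgen ha2 hm0).eq]
          group
  · -- `-1` is not a square: take it as the nonsquare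
    refine ⟨-1, hm, ?_⟩
    rw [neg_one_sq, R.h_one]
    have hk := keyh (A := a ^ 2) (B := b ^ 2) (pow_ne_zero 2 ha) (pow_ne_zero 2 hb) (by rw [habn]; exact hn0)
    rw [habn] at hk
    set Q := -(a ^ 2 * b ^ 2 / n) with hQ
    have hQs : IsSquare Q := by
      rw [hQ, show -(a ^ 2 * b ^ 2 / n) = (-1 * n) * ((a * b / n) * (a * b / n)) by field_simp]
      exact (hp hm hn).mul ⟨_, rfl⟩
    have hQ0 : Q ≠ 0 := by simp [hQ, ha, hb, hn0]
    rw [show a ^ 2 * b ^ 2 / n = Q * -1 by rw [hQ]; ring, sq hQs hQ0 neg_one_ne,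
      show -a ^ 2 = a ^ 2 * -1 by ring, R.h_sq_mul hgen ha neg_one_ne,
      show -(a ^ 2) ^ 2 / n = (a / b) ^ 2 * Q by rw [hQ]; field_simp,
      R.h_sq_mul hgen (div_ne_zero ha hb) hQ0] at hk
    have e : R.h ((a / b) ^ 2) * R.h Q * R.h (b ^ 2) = R.h Q * R.h (a ^ 2) := by
      rw [(R.h_comm hgen (by simp [ha, hb]) hQ0).eq, mul_assoc,
        ← R.h_sq_mul hgen (div_ne_zero ha hb) (pow_ne_zero 2 hb)]
      congr 2; field_simp
    rw [e] at hk
    refine mul_left_cancel (a := R.h Q * R.h (a ^ 2)) ?_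
    rw [mul_one]
    calc R.h Q * R.h (a ^ 2) = R.h Q * R.h (-1) * (R.h (a ^ 2) * R.h (-1)) := hk
      _ = _ := by
          rw [← mul_assoc (R.h Q * _), mul_assoc (R.h Q) (R.h (-1)), (R.h_comm hgen neg_one_ne (pow_ne_zero 2 ha)).eq]
          group

/-- Bruhat form of every element. -/
theorem bruhat [Finite K] (hgen : Subgroup.closure (Set.range R.x ∪ Set.range R.y) = ⊤) (g : H) :
    (∃ t u, t ≠ 0 ∧ g = R.h t * R.x u) ∨ ∃ s t u, t ≠ 0 ∧ g = R.x s * R.w t * R.x u := by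
  have hwh : ∀ {a k : K}, a ≠ 0 → k ≠ 0 → R.w a * R.h k = R.w (a / k) := by
    intro a k ha hk
    have e : R.w 1 * R.h k = R.h k⁻¹ * R.w 1 := by
      have h1 := R.w_conj_w (one_ne_zero (α := K)) hk
      rw [one_pow, one_div, mul_inv_eq_iff_eq_mul] at h1
      show R.w 1 * (R.w k * R.w (-1)) = R.w k⁻¹ * R.w (-1) * R.w 1
      rw [← mul_assoc, h1, ← R.w_inv 1]
      group
    rw [R.w_eq_h a, mul_assoc, e, ← mul_assoc, ← R.h_mul hgen ha (inv_ne_zero hk), ← R.w_eq_h, div_eq_mul_inv]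
  have hww : ∀ {a b : K}, a ≠ 0 → b ≠ 0 → R.w a * R.w b = R.h (-(a / b)) := by
    intro a b ha hb
    have e : R.w b = (R.w 1)⁻¹ * (R.h (-b))⁻¹ := by rw [← mul_inv_rev, ← R.w_eq_h, R.w_inv, neg_neg]
    rw [R.w_eq_h a, e, ← mul_assoc, mul_inv_cancel_right, mul_inv_eq_iff_eq_mul,
      ← R.h_mul hgen (by simp [ha, hb]) (neg_ne_zero.2 hb)]
    congr 1; field_simp
  let P : H → Prop := fun g =>
    (∃ t u, t ≠ 0 ∧ g = R.h t * R.x u) ∨ ∃ s t u, t ≠ 0 ∧ g = R.x s * R.w t * R.x u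
  have hx : ∀ g v, P g → P (g * R.x v) := by
    rintro g v (⟨t, u, ht, rfl⟩ | ⟨s, t, u, ht, rfl⟩)
    · exact Or.inl ⟨t, u + v, ht, by rw [mul_assoc, R.x_add]⟩
    · exact Or.inr ⟨s, t, u + v, ht, by rw [mul_assoc, R.x_add]⟩
  have hw : ∀ g r, r ≠ 0 → P g → P (g * R.w r) := by
    rintro g r hr (⟨t, u, ht, rfl⟩ | ⟨s, t, u, ht, rfl⟩)
    · refine Or.inr ⟨t ^ 2 * u, t * r, 0, mul_ne_zero ht hr, ?_⟩
      rw [R.x_zero, mul_one, R.h_conj_x ht, mul_assoc, R.w_eq_h r, ← mul_assoc (R.h t), ← R.h_mul hgen ht hr,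
        ← R.w_eq_h]
    · have hk0 : -(t / r) ≠ 0 := by simp [ht, hr]
      by_cases hu : u = 0
      · refine Or.inl ⟨-(t / r), s / (-(t / r)) ^ 2, hk0, ?_⟩
        rw [hu, R.x_zero, mul_one, mul_assoc, hww ht hr, R.h_conj_x hk0, mul_div_cancel₀ _ (pow_ne_zero 2 hk0)]
      · set v := -(u / t ^ 2) with hv
        have hv0 : v ≠ 0 := by simp [hv, hu, ht]
        have hy : R.y v = R.x v⁻¹ * R.w (-v⁻¹) * R.x v⁻¹ := by
          simp only [w, inv_neg, inv_inv, neg_neg, ← mul_assoc]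
          rw [R.x_add, add_neg_cancel, R.x_zero, one_mul, mul_assoc, R.x_add, neg_add_cancel, R.x_zero, mul_one]
        have hm : R.x v⁻¹ * R.h (-(t / r)) = R.h (-(t / r)) * R.x (v⁻¹ / (-(t / r)) ^ 2) := by
          rw [R.h_conj_x hk0, mul_div_cancel₀ _ (pow_ne_zero 2 hk0)]
        refine Or.inr ⟨s + v⁻¹, -v⁻¹ / -(t / r), v⁻¹ / (-(t / r)) ^ 2, div_ne_zero (by simp [hv0]) hk0, ?_⟩
        calc R.x s * R.w t * R.x u * R.w r = R.x s * (R.w t * R.x u) * R.w r := by group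
          _ = R.x s * R.y v * (R.w t * R.w r) := by rw [R.w_conj_x ht, ← hv]; group
          _ = R.x s * R.x v⁻¹ * R.w (-v⁻¹) * (R.x v⁻¹ * R.h (-(t / r))) := by rw [hy, hww ht hr]; group
          _ = R.x s * R.x v⁻¹ * (R.w (-v⁻¹) * R.h (-(t / r))) * R.x (v⁻¹ / (-(t / r)) ^ 2) := by rw [hm]; group
          _ = _ := by rw [hwh (by simp [hv0]) hk0, R.x_add]
  have hy : ∀ g v, P g → P (g * R.y v) := by
    intro g v hg
    rcases eq_or_ne v 0 with rfl | hv
    · rwa [R.y_zero, mul_one]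
    · have e : R.y v = R.x v⁻¹ * R.w (-v⁻¹) * R.x v⁻¹ := by
        simp only [w, inv_neg, inv_inv, neg_neg, ← mul_assoc]
        rw [R.x_add, add_neg_cancel, R.x_zero, one_mul, mul_assoc, R.x_add, neg_add_cancel, R.x_zero, mul_one]
      rw [e, ← mul_assoc, ← mul_assoc]
      exact hx _ _ (hw _ _ (by simpa using hv) (hx _ _ hg))
  have hone : P 1 := Or.inl ⟨1, 0, one_ne_zero, by rw [R.h_one, R.x_zero, one_mul]⟩
  have hmem : g ∈ Subgroup.closure (Set.range R.x ∪ Set.range R.y) := hgen ▸ Subgroup.mem_top g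
  show P g
  induction hmem using Subgroup.closure_induction_right with
  | one => exact hone
  | mul_right g z _ hz hg =>
    rcases hz with ⟨v, rfl⟩ | ⟨v, rfl⟩
    · exact hx _ _ hg
    · exact hy _ _ hg
  | mul_inv_cancel g z _ hz hg =>
    rcases hz with ⟨v, rfl⟩ | ⟨v, rfl⟩
    · rw [R.x_inv]; exact hx _ _ hg
    · rw [R.y_inv]; exact hy _ _ hg

end Rel

end Cfsg.Agent.SteinSL2
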